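import Mathlib.CategoryTheory.Monoidal.Braided.Basic
import Mathlib.CategoryTheory.Monoidal.NaturalTransformation
import Mathlib.CategoryTheory.Groupoid

/-!
The free Picard category on a symmetric monoidal groupoid: formal objects, and formal morphisms
modulo equality under every interpretation in a Picard category.
-/

set_option autoImplicit false

noncomputable section

universe v v' u u'

open CategoryTheory MonoidalCategory
open CategoryTheory.Functor.LaxMonoidal

namespace Groth.L15.PicFree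

/-- Formal objects; the type records the universes `u' v'` of the target Picard categories, on
which the quotient defining morphisms depends. -/
inductive Obj.{w', z, z'} (A : Type z) (p : PUnit.{w' + 1}) (q : PUnit.{z' + 1}) : Type z
  | of (a : A)
  | one
  | ten (X Y : Obj A p q)
  | neg (X : Obj A p q)

/-- The free Picard category, relative to Picard categories in universes `u' v'`. -/
abbrev V (A : Type u) [Category.{v} A] : Type u :=
  Obj.{v', u, u'} A PUnit.unit.{v' + 1} PUnit.unit.{u' + 1}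

variable {A : Type u} [Category.{v} A] [MonoidalCategory A] [SymmetricCategory A]

inductive Pre : V.{v, v', u, u'} A → V.{v, v', u, u'} A → Type (max u v)
  | id (X : V.{v, v', u, u'} A) : Pre X X
  | comp {X Y Z : V.{v, v', u, u'} A} (f : Pre X Y) (g : Pre Y Z) : Pre X Z
  | symm {X Y : V.{v, v', u, u'} A} (f : Pre X Y) : Pre Y X
  | ten {X Y X' Y' : V.{v, v', u, u'} A} (f : Pre X Y) (g : Pre X' Y') : Pre (.ten X X') (.ten Y Y')
  | assoc (X Y Z : V.{v, v', u, u'} A) : Pre (.ten (.ten X Y) Z) (.ten X (.ten Y Z))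
  | lunit (X : V.{v, v', u, u'} A) : Pre (.ten .one X) X
  | runit (X : V.{v, v', u, u'} A) : Pre (.ten X .one) X
  | braid (X Y : V.{v, v', u, u'} A) : Pre (.ten X Y) (.ten Y X)
  | ofMap {a b : A} (f : a ⟶ b) : Pre (.of a) (.of b)
  | eps : Pre .one (.of (𝟙_ A))
  | mu (a b : A) : Pre (.ten (.of a) (.of b)) (.of (a ⊗ b))
  | counit (X : V.{v, v', u, u'} A) : Pre (.ten X (.neg X)) .one

variable (A) in
/-- An interpretation of `A` in a Picard category. -/
structure Interp : Type (max u v (u' + 1) (v' + 1)) where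
  P : Type u'
  [cat : Category.{v'} P]
  [mon : MonoidalCategory P]
  [sym : SymmetricCategory P]
  [grpd : IsGroupoid P]
  Φ : A ⥤ P
  [lax : Φ.LaxBraided]
  ng : P → P
  cu : ∀ X : P, X ⊗ ng X ≅ 𝟙_ P

attribute [instance] Interp.cat Interp.mon Interp.sym Interp.grpd Interp.lax

namespace Interp

variable (F : Interp.{v, v', u, u'} A)

def obj : V.{v, v', u, u'} A → F.P
  | .of a => F.Φ.obj a
  | .one => 𝟙_ F.P
  | .ten X Y => obj X ⊗ obj Y
  | .neg X => F.ng (obj X)

def map : {X Y : V.{v, v', u, u'} A} → Pre X Y → (F.obj X ⟶ F.obj Y)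
  | _, _, .id _ => 𝟙 _
  | _, _, .comp f g => map f ≫ map g
  | _, _, .symm f => inv (map f)
  | _, _, .ten f g => map f ⊗ₘ map g
  | _, _, .assoc _ _ _ => (α_ _ _ _).hom
  | _, _, .lunit _ => (λ_ _).hom
  | _, _, .runit _ => (ρ_ _).hom
  | _, _, .braid _ _ => (β_ _ _).hom
  | _, _, .ofMap f => F.Φ.map f
  | _, _, .eps => ε F.Φ
  | _, _, .mu a b => μ F.Φ a b
  | _, _, .counit _ => (F.cu _).hom

end Interp

def rel (X Y : V.{v, v', u, u'} A) : Setoid (Pre X Y) where
  r f g := ∀ F : Interp.{v, v', u, u'} A, F.map f = F.map g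
  iseqv := ⟨fun _ _ => rfl, fun h F => (h F).symm, fun h h' F => (h F).trans (h' F)⟩

def mk {X Y : V.{v, v', u, u'} A} (f : Pre X Y) : Quotient (rel.{v, v', u, u'} X Y) := Quotient.mk _ f

theorem mk_eq {X Y : V.{v, v', u, u'} A} {f g : Pre X Y}
    (h : ∀ F : Interp.{v, v', u, u'} A, F.map f = F.map g) :
    mk.{v, v', u, u'} f = mk.{v, v', u, u'} g :=
  Quotient.sound h

instance : Category.{max u v} (V.{v, v', u, u'} A) where
  Hom X Y := Quotient (rel.{v, v', u, u'} (A := A) X Y)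
  id X := mk (.id X)
  comp := Quotient.map₂ Pre.comp (fun f f' hf g g' hg F => by
    change F.map f ≫ F.map g = F.map f' ≫ F.map g'
    rw [hf F, hg F])
  id_comp := by rintro X Y ⟨f⟩; exact mk_eq fun F => Category.id_comp (F.map f)
  comp_id := by rintro X Y ⟨f⟩; exact mk_eq fun F => Category.comp_id (F.map f)
  assoc := by
    rintro W X Y Z ⟨f⟩ ⟨g⟩ ⟨h⟩
    exact mk_eq fun F => Category.assoc (F.map f) (F.map g) (F.map h)

/-- Quotient morphism of a formal morphism. -/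
def hom {X Y : V.{v, v', u, u'} A} (f : Pre X Y) : @Quiver.Hom (V.{v, v', u, u'} A) _ X Y := mk f

def isoOf {X Y : V.{v, v', u, u'} A} (f : Pre X Y) : @Iso (V.{v, v', u, u'} A) _ X Y where
  hom := hom f
  inv := hom f.symm
  hom_inv_id := mk_eq fun F => IsIso.hom_inv_id (F.map f)
  inv_hom_id := mk_eq fun F => IsIso.inv_hom_id (F.map f)

instance : IsGroupoid (V.{v, v', u, u'} A) where
  all_isIso f := by
    induction f using Quotient.ind with
    | _ f => exact (isoOf f).isIso_hom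

instance : MonoidalCategoryStruct (V.{v, v', u, u'} A) where
  tensorObj X Y := Obj.ten X Y
  tensorHom := fun f g => Quotient.map₂ Pre.ten (fun f f' hf g g' hg F => by
    change F.map f ⊗ₘ F.map g = F.map f' ⊗ₘ F.map g'
    rw [hf F, hg F]) f g
  whiskerLeft X _ _ f := Quotient.map (fun f => Pre.ten (.id X) f) (fun f f' hf F => by
    change 𝟙 _ ⊗ₘ F.map f = 𝟙 _ ⊗ₘ F.map f'
    rw [hf F]) f
  whiskerRight f Y := Quotient.map (fun f => Pre.ten f (.id Y)) (fun f f' hf F => by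
    change F.map f ⊗ₘ 𝟙 _ = F.map f' ⊗ₘ 𝟙 _
    rw [hf F]) f
  tensorUnit := Obj.one
  associator X Y Z := isoOf (.assoc X Y Z)
  leftUnitor X := isoOf (.lunit X)
  rightUnitor X := isoOf (.runit X)

instance : MonoidalCategory (V.{v, v', u, u'} A) :=
  MonoidalCategory.ofTensorHom
    (id_tensorHom_id := fun X Y => mk_eq fun F => id_tensorHom_id (F.obj X) (F.obj Y))
    (id_tensorHom := by rintro X Y₁ Y₂ ⟨f⟩; rfl)
    (tensorHom_id := by rintro X₁ X₂ ⟨f⟩ Y; rfl)
    (tensorHom_comp_tensorHom := by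
      rintro X₁ Y₁ Z₁ X₂ Y₂ Z₂ ⟨f₁⟩ ⟨f₂⟩ ⟨g₁⟩ ⟨g₂⟩
      exact mk_eq fun F => tensorHom_comp_tensorHom (F.map f₁) (F.map f₂) (F.map g₁) (F.map g₂))
    (associator_naturality := by
      rintro X₁ X₂ X₃ Y₁ Y₂ Y₃ ⟨f₁⟩ ⟨f₂⟩ ⟨f₃⟩
      exact mk_eq fun F => associator_naturality (F.map f₁) (F.map f₂) (F.map f₃))
    (leftUnitor_naturality := by
      rintro X Y ⟨f⟩
      exact mk_eq fun F => by
        change (𝟙 _ ⊗ₘ F.map f) ≫ (λ_ _).hom = (λ_ _).hom ≫ F.map f
        rw [id_tensorHom]; exact MonoidalCategory.leftUnitor_naturality (F.map f))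
    (rightUnitor_naturality := by
      rintro X Y ⟨f⟩
      exact mk_eq fun F => by
        change (F.map f ⊗ₘ 𝟙 _) ≫ (ρ_ _).hom = (ρ_ _).hom ≫ F.map f
        rw [tensorHom_id]; exact MonoidalCategory.rightUnitor_naturality (F.map f))
    (pentagon := fun W X Y Z => mk_eq fun F => by
      change ((α_ _ _ _).hom ⊗ₘ 𝟙 _) ≫ (α_ _ _ _).hom ≫ (𝟙 _ ⊗ₘ (α_ _ _ _).hom) =
        (α_ _ _ _).hom ≫ (α_ _ _ _).hom
      rw [id_tensorHom, tensorHom_id]; exact MonoidalCategory.pentagon _ _ _ _)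
    (triangle := fun X Y => mk_eq fun F => by
      change (α_ _ _ _).hom ≫ (𝟙 _ ⊗ₘ (λ_ _).hom) = (ρ_ _).hom ⊗ₘ 𝟙 _
      rw [id_tensorHom, tensorHom_id]; exact MonoidalCategory.triangle _ _)

instance : SymmetricCategory (V.{v, v', u, u'} A) where
  braiding X Y := isoOf (.braid X Y)
  braiding_naturality_right := by
    rintro X Y Z ⟨f⟩
    exact mk_eq fun F => by
      change (𝟙 _ ⊗ₘ F.map f) ≫ (β_ _ _).hom = (β_ _ _).hom ≫ (F.map f ⊗ₘ 𝟙 _)
      rw [id_tensorHom, tensorHom_id]; exact BraidedCategory.braiding_naturality_right _ _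
  braiding_naturality_left := by
    rintro X Y ⟨f⟩ Z
    exact mk_eq fun F => by
      change (F.map f ⊗ₘ 𝟙 _) ≫ (β_ _ _).hom = (β_ _ _).hom ≫ (𝟙 _ ⊗ₘ F.map f)
      rw [id_tensorHom, tensorHom_id]; exact BraidedCategory.braiding_naturality_left _ _
  hexagon_forward X Y Z := mk_eq fun F => by
    change (α_ _ _ _).hom ≫ (β_ _ (_ ⊗ _)).hom ≫ (α_ _ _ _).hom =
      ((β_ _ _).hom ⊗ₘ 𝟙 _) ≫ (α_ _ _ _).hom ≫ (𝟙 _ ⊗ₘ (β_ _ _).hom)
    rw [id_tensorHom, tensorHom_id]; exact BraidedCategory.hexagon_forward _ _ _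
  hexagon_reverse X Y Z := mk_eq fun F => by
    change inv (α_ _ _ _).hom ≫ (β_ (_ ⊗ _) _).hom ≫ inv (α_ _ _ _).hom =
      (𝟙 _ ⊗ₘ (β_ _ _).hom) ≫ inv (α_ _ _ _).hom ≫ ((β_ _ _).hom ⊗ₘ 𝟙 _)
    simp only [IsIso.Iso.inv_hom, id_tensorHom, tensorHom_id]
    exact BraidedCategory.hexagon_reverse _ _ _
  symmetry X Y := mk_eq fun F => SymmetricCategory.symmetry (F.obj X) (F.obj Y)

end Groth.L15.PicFree
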