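import Groth.Agent.L15.PicFree.Basic

/-!
The universal property of the free Picard category.
-/

set_option autoImplicit false

noncomputable section

universe v v' u u'

open CategoryTheory MonoidalCategory
open CategoryTheory.Functor.LaxMonoidal

namespace Groth.L15.PicFree

/-- In a braided category, tensoring with an invertible object is an equivalence. -/
theorem isEquivalence_tensor_of_inverse {C : Type*} [Category C] [MonoidalCategory C]
    [BraidedCategory C] (X Y : C) (c : X ⊗ Y ≅ 𝟙_ C) :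
    (tensorLeft X).IsEquivalence ∧ (tensorRight X).IsEquivalence := by
  have hL : (tensorLeft X).IsEquivalence :=
    (CategoryTheory.Equivalence.mk (tensorLeft X) (tensorLeft Y)
      (((tensoringLeft C).mapIso (β_ Y X ≪≫ c) ≪≫
        MonoidalCategory.leftUnitorNatIso C).symm ≪≫
          tensorLeftTensor Y X)
      ((tensorLeftTensor X Y).symm ≪≫ (tensoringLeft C).mapIso c ≪≫
        MonoidalCategory.leftUnitorNatIso C)).isEquivalence_functor
  exact ⟨hL, Functor.isEquivalence_of_iso (BraidedCategory.tensorLeftIsoTensorRight X)⟩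

variable {A : Type u} [Category.{v} A] [MonoidalCategory A] [SymmetricCategory A]

/-- The canonical functor. -/
def incl : A ⥤ V.{v, v', u, u'} A where
  obj a := Obj.of a
  map f := hom (.ofMap f)
  map_id a := mk_eq fun F => F.Φ.map_id a
  map_comp f g := mk_eq fun F => F.Φ.map_comp f g

instance : (incl.{v, v', u, u'} : A ⥤ _).LaxBraided where
  ε := hom .eps
  μ a b := hom (.mu a b)
  μ_natural_left f b := mk_eq fun F => by
    change (F.Φ.map f ⊗ₘ 𝟙 _) ≫ μ F.Φ _ b = μ F.Φ _ b ≫ F.Φ.map (f ▷ b)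
    rw [tensorHom_id]; exact μ_natural_left F.Φ f b
  μ_natural_right a f := mk_eq fun F => by
    change (𝟙 _ ⊗ₘ F.Φ.map f) ≫ μ F.Φ a _ = μ F.Φ a _ ≫ F.Φ.map (a ◁ f)
    rw [id_tensorHom]; exact μ_natural_right F.Φ a f
  associativity a b c := mk_eq fun F => by
    change (μ F.Φ a b ⊗ₘ 𝟙 _) ≫ μ F.Φ _ c ≫ F.Φ.map _ = (α_ _ _ _).hom ≫ (𝟙 _ ⊗ₘ μ F.Φ b c) ≫ μ F.Φ a _
    rw [id_tensorHom, tensorHom_id]; exact associativity F.Φ a b c
  left_unitality a := mk_eq fun F => by
    change (λ_ _).hom = (ε F.Φ ⊗ₘ 𝟙 _) ≫ μ F.Φ _ a ≫ F.Φ.map _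
    rw [tensorHom_id]; exact left_unitality F.Φ a
  right_unitality a := mk_eq fun F => by
    change (ρ_ _).hom = (𝟙 _ ⊗ₘ ε F.Φ) ≫ μ F.Φ a _ ≫ F.Φ.map _
    rw [id_tensorHom]; exact right_unitality F.Φ a
  braided a b := mk_eq fun F => Functor.LaxBraided.braided (F := F.Φ) a b

theorem isEquivalence_tensor (X : V.{v, v', u, u'} A) :
    (tensorLeft X).IsEquivalence ∧ (tensorRight X).IsEquivalence :=
  isEquivalence_tensor_of_inverse X (Obj.neg X) (isoOf (.counit X))

namespace Interp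

variable (F : Interp.{v, v', u, u'} A)

def functor : V.{v, v', u, u'} A ⥤ F.P where
  obj X := F.obj X
  map {X Y} f := Quotient.lift (s := rel X Y) (fun g => F.map g) (fun _ _ h => h F) f
  map_id _ := rfl
  map_comp := by rintro X Y Z ⟨f⟩ ⟨g⟩; rfl

instance functorLaxBraided : F.functor.LaxBraided where
  ε := 𝟙 _
  μ X Y := 𝟙 _
  μ_natural_left := by
    rintro X Y ⟨f⟩ Z
    exact (Category.comp_id _).trans ((tensorHom_id _ _).symm.trans (Category.id_comp _).symm)
  μ_natural_right := by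
    rintro X Y Z ⟨f⟩
    exact (Category.comp_id _).trans ((id_tensorHom _ _).symm.trans (Category.id_comp _).symm)
  associativity X Y Z := by
    change 𝟙 _ ▷ _ ≫ 𝟙 _ ≫ (α_ _ _ _).hom = (α_ _ _ _).hom ≫ _ ◁ 𝟙 _ ≫ 𝟙 _
    rw [MonoidalCategory.id_whiskerRight, MonoidalCategory.whiskerLeft_id]
    exact (Category.id_comp _).trans ((Category.id_comp _).trans
      ((Category.comp_id _).symm.trans (congrArg _ (Category.id_comp _).symm)))
  left_unitality X := by
    change (λ_ _).hom = 𝟙 _ ▷ _ ≫ 𝟙 _ ≫ (λ_ _).hom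
    rw [MonoidalCategory.id_whiskerRight]
    exact ((Category.id_comp _).trans (Category.id_comp _)).symm
  right_unitality X := by
    change (ρ_ _).hom = _ ◁ 𝟙 _ ≫ 𝟙 _ ≫ (ρ_ _).hom
    rw [MonoidalCategory.whiskerLeft_id]
    exact ((Category.id_comp _).trans (Category.id_comp _)).symm
  braided X Y := (Category.id_comp _).trans (Category.comp_id _).symm

def inclIso : incl ⋙ F.functor ≅ F.Φ := NatIso.ofComponents (fun a => Iso.refl _)
  (fun f => (Category.comp_id _).trans (Category.id_comp _).symm)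

theorem isMonoidal_inclIso : NatTrans.IsMonoidal F.inclIso.hom where
  unit := (Category.comp_id _).trans (Category.id_comp _)
  tensor a b := (Category.comp_id _).trans ((Category.id_comp _).trans
    ((Category.id_comp _).symm.trans (congrArg (· ≫ _) (id_tensorHom_id _ _).symm)))

end Interp

/-- (a) of the universal property. -/
theorem exists_lift (P : Type u') [Category.{v'} P] [MonoidalCategory P] [SymmetricCategory P]
    [IsGroupoid P] (hP : ∀ X : P, (tensorLeft X).IsEquivalence ∧ (tensorRight X).IsEquivalence)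
    (Φ : A ⥤ P) [Φ.LaxBraided] :
    ∃ (Ψ : V.{v, v', u, u'} A ⥤ P) (_ : Ψ.LaxBraided) (η : incl ⋙ Ψ ≅ Φ),
      NatTrans.IsMonoidal η.hom :=
  let F : Interp.{v, v', u, u'} A :=
    { P := P, Φ := Φ
      ng := fun X => letI := (hP X).1; (tensorLeft X).objPreimage (𝟙_ P)
      cu := fun X => letI := (hP X).1; (tensorLeft X).objObjPreimageIso (𝟙_ P) }
  ⟨F.functor, F.functorLaxBraided, F.inclIso, F.isMonoidal_inclIso⟩

section Unique

variable {P : Type u'} [Category.{v'} P] [MonoidalCategory P] [SymmetricCategory P]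
  [IsGroupoid P] (hP : ∀ X : P, (tensorLeft X).IsEquivalence ∧ (tensorRight X).IsEquivalence)
  {Ψ Ψ' : V.{v, v', u, u'} A ⥤ P} [Ψ.LaxBraided] [Ψ'.LaxBraided]
  (τ : incl ⋙ Ψ ⟶ incl ⋙ Ψ')

/-- The extension of a transformation, object by object. -/
def th : ∀ X : V.{v, v', u, u'} A, Ψ.obj X ⟶ Ψ'.obj X
  | .of a => τ.app a
  | .one => inv (ε Ψ) ≫ ε Ψ'
  | .ten X Y => inv (μ Ψ X Y) ≫ (th X ⊗ₘ th Y) ≫ μ Ψ' X Y
  | .neg X =>
    letI := (hP (Ψ'.obj X)).1
    (tensorLeft (Ψ'.obj X)).preimage (inv (th X ▷ Ψ.obj (Obj.neg X)) ≫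
      μ Ψ X (Obj.neg X) ≫ Ψ.map (hom (.counit X)) ≫ (inv (ε Ψ) ≫ ε Ψ') ≫
        inv (μ Ψ' X (Obj.neg X) ≫ Ψ'.map (hom (.counit X))))

theorem th_tensor (X Y : V.{v, v', u, u'} A) :
    μ Ψ X Y ≫ th hP τ (Obj.ten X Y) = (th hP τ X ⊗ₘ th hP τ Y) ≫ μ Ψ' X Y := by
  change μ Ψ X Y ≫ inv (μ Ψ X Y) ≫ _ = _
  exact IsIso.hom_inv_id_assoc _ _

theorem th_unit : ε Ψ ≫ th hP τ Obj.one = ε Ψ' := IsIso.hom_inv_id_assoc _ _

theorem th_counit (X : V.{v, v', u, u'} A) :
    Ψ.map (hom (.counit X)) ≫ th hP τ Obj.one =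
      th hP τ (Obj.ten X (Obj.neg X)) ≫ Ψ'.map (hom (.counit X)) := by
  have h : Ψ'.obj X ◁ th hP τ (Obj.neg X) = inv (th hP τ X ▷ Ψ.obj (Obj.neg X)) ≫
      μ Ψ X (Obj.neg X) ≫ Ψ.map (hom (.counit X)) ≫ (inv (ε Ψ) ≫ ε Ψ') ≫
        inv (μ Ψ' X (Obj.neg X) ≫ Ψ'.map (hom (.counit X))) :=
    letI := (hP (Ψ'.obj X)).1
    Functor.map_preimage (tensorLeft (Ψ'.obj X)) _
  rw [← cancel_epi (μ Ψ X (Obj.neg X))]
  refine Eq.trans ?_ (Category.assoc _ _ _)
  rw [th_tensor hP τ X (Obj.neg X), MonoidalCategory.tensorHom_def, h]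
  simp only [Category.assoc, IsIso.hom_inv_id_assoc]
  erw [IsIso.inv_hom_id]
  erw [Category.comp_id]
  rfl

theorem th_natural (hτ : NatTrans.IsMonoidal τ) : ∀ {X Y : V.{v, v', u, u'} A} (f : Pre X Y),
    Ψ.map (hom f) ≫ th hP τ Y = th hP τ X ≫ Ψ'.map (hom f)
  | _, _, .id X => by
    have e : hom (.id X) = 𝟙 (show V.{v, v', u, u'} A from X) := rfl
    rw [e, Ψ.map_id, Ψ'.map_id]
    exact (Category.id_comp _).trans (Category.comp_id _).symm
  | _, _, .comp f g => by
    have e : hom (.comp f g) = hom.{v, v', u, u'} f ≫ hom g := rfl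
    rw [e, Ψ.map_comp, Ψ'.map_comp, Category.assoc]
    refine (congrArg _ (th_natural hτ g)).trans ?_
    refine ((Category.assoc _ _ _).symm.trans ?_)
    exact (congrArg (· ≫ _) (th_natural hτ f)).trans (Category.assoc _ _ _)
  | _, _, .symm f => by
    have e : hom f ≫ hom f.symm = 𝟙 _ := (isoOf.{v, v', u, u'} f).hom_inv_id
    have e' : hom f.symm ≫ hom f = 𝟙 _ := (isoOf.{v, v', u, u'} f).inv_hom_id
    rw [← cancel_mono (Ψ'.map (hom f))]
    simp only [Category.assoc, ← Functor.map_comp]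
    rw [e', Ψ'.map_id, Category.comp_id, ← th_natural hτ f, ← Category.assoc,
      ← Functor.map_comp, e', Ψ.map_id, Category.id_comp]
  | _, _, .ten (X := X) (Y := Y) (X' := X') (Y' := Y') f g => by
    have e : hom (.ten f g) = hom.{v, v', u, u'} f ⊗ₘ hom g := rfl
    rw [e, ← cancel_epi (μ Ψ X X')]
    refine (μ_natural_assoc Ψ (hom f) (hom g) _).symm.trans ?_
    refine Eq.trans ?_ (Category.assoc _ _ _)
    erw [th_tensor hP τ Y Y', th_tensor hP τ X X']
    rw [Category.assoc]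
    erw [← μ_natural Ψ' (hom f) (hom g)]
    simp only [← Category.assoc, tensorHom_comp_tensorHom]
    rw [th_natural hτ f, th_natural hτ g]
  | _, _, .assoc X Y Z => by
    let x : V.{v, v', u, u'} A := X
    let y : V.{v, v', u, u'} A := Y
    let z : V.{v, v', u, u'} A := Z
    have tt : ∀ p q : V.{v, v', u, u'} A, μ Ψ p q ≫ th hP τ (Obj.ten p q) =
      (th hP τ p ⊗ₘ th hP τ q) ≫ μ Ψ' p q := th_tensor hP τ
    change Ψ.map (α_ x y z).hom ≫ th hP τ (Obj.ten X (Obj.ten Y Z)) =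
      th hP τ (Obj.ten (Obj.ten X Y) Z) ≫ Ψ'.map (α_ x y z).hom
    rw [← cancel_epi (μ Ψ x y ▷ Ψ.obj z ≫ μ Ψ (x ⊗ y) z)]
    have l := associativity_assoc Ψ x y z (th hP τ (Obj.ten X (Obj.ten Y Z)))
    refine ((Category.assoc _ _ _).trans l).trans ?_
    refine Eq.trans ?_ ((Category.assoc _ _ _).trans (congrArg _ (Category.assoc _ _ _).symm)).symm
    erw [tt x (Obj.ten Y Z), tt (Obj.ten X Y) z]
    simp only [Category.assoc]
    erw [MonoidalCategory.whiskerLeft_comp_tensorHom_assoc, tt y z,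
      MonoidalCategory.whiskerRight_comp_tensorHom_assoc, tt x y]
    rw [← tensorHom_comp_whiskerLeft, ← tensorHom_comp_whiskerRight, Category.assoc, Category.assoc,
      ← MonoidalCategory.associator_naturality_assoc]
    exact (congrArg _ (associativity Ψ' x y z)).symm
  | _, _, .lunit X => by
    let x : V.{v, v', u, u'} A := X
    change Ψ.map (λ_ x).hom ≫ th hP τ X = th hP τ (Obj.ten Obj.one X) ≫ Ψ'.map (λ_ x).hom
    rw [← cancel_epi (ε Ψ ▷ Ψ.obj x ≫ μ Ψ (𝟙_ _) x)]
    refine Eq.trans ?_ ((Category.assoc _ _ _).trans (congrArg _ (Category.assoc _ _ _).symm)).symm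
    erw [th_tensor hP τ Obj.one X]
    rw [Category.assoc]
    simp only [Category.assoc]
    erw [MonoidalCategory.whiskerRight_comp_tensorHom_assoc, th_unit hP τ]
    rw [tensorHom_def', Category.assoc]
    erw [← left_unitality Ψ' x]
    rw [leftUnitor_naturality, left_unitality Ψ x]
    simp only [Category.assoc]
  | _, _, .runit X => by
    let x : V.{v, v', u, u'} A := X
    change Ψ.map (ρ_ x).hom ≫ th hP τ X = th hP τ (Obj.ten X Obj.one) ≫ Ψ'.map (ρ_ x).hom
    rw [← cancel_epi (Ψ.obj x ◁ ε Ψ ≫ μ Ψ x (𝟙_ _))]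
    refine Eq.trans ?_ ((Category.assoc _ _ _).trans (congrArg _ (Category.assoc _ _ _).symm)).symm
    erw [th_tensor hP τ X Obj.one]
    rw [Category.assoc]
    simp only [Category.assoc]
    erw [MonoidalCategory.whiskerLeft_comp_tensorHom_assoc, th_unit hP τ]
    rw [tensorHom_def, Category.assoc]
    erw [← right_unitality Ψ' x]
    rw [rightUnitor_naturality, right_unitality Ψ x]
    simp only [Category.assoc]
  | _, _, .braid X Y => by
    let x : V.{v, v', u, u'} A := X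
    let y : V.{v, v', u, u'} A := Y
    change Ψ.map (β_ x y).hom ≫ th hP τ (Obj.ten Y X) = th hP τ (Obj.ten X Y) ≫ Ψ'.map (β_ x y).hom
    rw [← cancel_epi (μ Ψ x y)]
    refine (Functor.LaxBraided.braided_assoc x y _).trans ?_
    refine Eq.trans ?_ (Category.assoc _ _ _)
    erw [th_tensor hP τ Y X, th_tensor hP τ X Y]
    rw [Category.assoc]
    erw [Functor.LaxBraided.braided (F := Ψ') x y]
    exact (BraidedCategory.braiding_naturality_assoc _ _ _).symm
  | _, _, .ofMap f => τ.naturality f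
  | _, _, .eps => by
    rw [← cancel_epi (ε Ψ)]
    refine Eq.trans ?_ (Category.assoc _ _ _)
    erw [th_unit hP τ]
    exact (Category.assoc _ _ _).symm.trans hτ.unit
  | _, _, .mu a b => by
    rw [← cancel_epi (μ Ψ (Obj.of a) (Obj.of b))]
    refine Eq.trans ?_ (Category.assoc _ _ _)
    erw [th_tensor hP τ (Obj.of a) (Obj.of b)]
    exact (Category.assoc _ _ _).symm.trans
      ((hτ.tensor a b).trans (Category.assoc _ _ _).symm)
  | _, _, .counit X => th_counit hP τ X

include hP in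
/-- (b) of the universal property. -/
theorem existsUnique_extension (hτ : NatTrans.IsMonoidal τ) :
    ∃! θ : Ψ ⟶ Ψ', NatTrans.IsMonoidal θ ∧ Functor.whiskerLeft incl θ = τ := by
  refine ⟨⟨fun X => th hP τ X, ?_⟩, ⟨⟨th_unit hP τ, th_tensor hP τ⟩, rfl⟩, ?_⟩
  · rintro X Y ⟨f⟩
    exact th_natural hP τ hτ f
  rintro θ ⟨hθ, hw⟩
  ext X
  change θ.app X = th hP τ X
  induction X with
  | of a => exact congr_arg (fun t => NatTrans.app t a) hw
  | one =>
    refine (cancel_epi (ε Ψ)).mp ?_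
    exact hθ.unit.trans (th_unit hP τ).symm
  | ten X Y hX hY =>
    refine (cancel_epi (μ Ψ X Y)).mp ?_
    refine (hθ.tensor X Y).trans ?_
    rw [hX, hY]
    exact (th_tensor hP τ X Y).symm
  | neg X hX =>
    let x : V.{v, v', u, u'} A := X
    have h1 : θ.app (Obj.one) = th hP τ Obj.one :=
      (cancel_epi (ε Ψ)).mp (hθ.unit.trans (th_unit hP τ).symm)
    have h2 := (θ.naturality (hom (.counit X))).symm.trans
      ((congrArg _ h1).trans (th_counit hP τ X))
    have h3 := (cancel_mono (Ψ'.map (hom (.counit X)))).mp h2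
    have h4 := congrArg (fun t => μ Ψ x (Obj.neg X) ≫ t) h3
    have h5 := ((hθ.tensor x (Obj.neg X)).symm.trans h4).trans (th_tensor hP τ X (Obj.neg X))
    have h6 := (cancel_mono (μ Ψ' x (Obj.neg X))).mp h5
    have h7 : θ.app x = th hP τ X := hX
    rw [h7, tensorHom_def, tensorHom_def] at h6
    letI := (hP (Ψ'.obj x)).1
    exact (tensorLeft (Ψ'.obj x)).map_injective ((cancel_epi (th hP τ X ▷ _)).mp h6)

end Unique

end Groth.L15.PicFree
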